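import Cfsg.Prelude.Def_ClassicalGeometry
import Mathlib

/-!
Transvections of a finite-dimensional linear group: conjugacy and counting.
-/

set_option autoImplicit false
set_option linter.unusedSectionVars false

namespace Cfsg.Agent.TransvGL

open Matrix

variable {F : Type*} [Field F] {n : ℕ}

local notation "V" => Fin n → F
local notation "Mat" => Matrix (Fin n) (Fin n) F

theorem exists_data {t : Mat} (ht : Cfsg.IsTransvection t) :
    ∃ a φ : V, a ≠ 0 ∧ φ ≠ 0 ∧ φ ⬝ᵥ a = 0 ∧ t = 1 + vecMulVec a φ := by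
  obtain ⟨hr, hsq⟩ := ht
  obtain ⟨⟨a, har⟩, ha0, hspan⟩ := finrank_eq_one_iff'.1 hr
  have ha : a ≠ 0 := fun h => ha0 (Subtype.ext h)
  have hcol : ∀ j, ∃ c : F, (t - 1) *ᵥ Pi.single j 1 = c • a := fun j => by
    obtain ⟨c, hc⟩ := hspan ⟨_, LinearMap.mem_range_self (t - 1).mulVecLin (Pi.single j 1)⟩
    exact ⟨c, (congrArg Subtype.val hc).symm⟩
  choose φ hφ using hcol
  have hN : t - 1 = vecMulVec a φ := by
    ext i j
    have := congrFun (hφ j) i
    rw [mulVec_single_one, Pi.smul_apply, smul_eq_mul] at this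
    rw [vecMulVec_apply, mul_comm]
    exact this
  have hφ0 : φ ≠ 0 := fun h => by
    rw [hN, h, vecMulVec_zero] at hr
    simp at hr
  refine ⟨a, φ, ha, hφ0, ?_, by rw [← hN, add_sub_cancel]⟩
  rw [hN, vecMulVec_mul_vecMulVec, vecMulVec_smul, smul_eq_zero] at hsq
  refine hsq.resolve_right fun h => ?_
  obtain ⟨i, hi⟩ := Function.ne_iff.1 ha
  obtain ⟨j, hj⟩ := Function.ne_iff.1 hφ0
  have := congrFun (congrFun h i) j
  rw [vecMulVec_apply] at this
  exact mul_ne_zero hi hj this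

theorem exists_dual {a φ : V} (ha : a ≠ 0) (hφ : φ ≠ 0) (h : φ ⬝ᵥ a = 0) :
    ∃ ψ w : V, ψ ⬝ᵥ a = 1 ∧ φ ⬝ᵥ w = 1 ∧ ψ ⬝ᵥ w = 0 := by
  obtain ⟨i, hi⟩ := Function.ne_iff.1 ha
  obtain ⟨j, hj⟩ := Function.ne_iff.1 hφ
  set w : V := Pi.single j (φ j)⁻¹
  set ψ₀ : V := Pi.single i (a i)⁻¹
  have h1 : φ ⬝ᵥ w = 1 := by rw [dotProduct_single, mul_inv_cancel₀ hj]
  have h2 : ψ₀ ⬝ᵥ a = 1 := by rw [single_dotProduct, inv_mul_cancel₀ hi]
  refine ⟨ψ₀ - (ψ₀ ⬝ᵥ w) • φ, w, ?_, h1, ?_⟩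
  · rw [sub_dotProduct, smul_dotProduct, h, smul_zero, sub_zero, h2]
  · rw [sub_dotProduct, smul_dotProduct, h1, smul_eq_mul, mul_one, sub_self]

/-- Coordinates adapted to `(a, φ)`. -/
theorem exists_frame {a φ : V} (ha : a ≠ 0) (hφ : φ ≠ 0) (h : φ ⬝ᵥ a = 0) :
    ∃ (C : Submodule F V) (P : V ≃ₗ[F] F × F × C),
      Module.finrank F C + 2 = n ∧ P a = (1, 0, 0) ∧ ∀ x, (P x).2.1 = φ ⬝ᵥ x := by
  obtain ⟨ψ, w, h1, h2, h3⟩ := exists_dual ha hφ h
  let L : V →ₗ[F] F × F :=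
    (dotProductBilin F F ψ).prod (dotProductBilin F F φ)
  have hL : ∀ x, L x = (ψ ⬝ᵥ x, φ ⬝ᵥ x) := fun x => rfl
  let S : F × F →ₗ[F] V := (LinearMap.toSpanSingleton F V a).coprod (LinearMap.toSpanSingleton F V w)
  have hS : ∀ c : F × F, S c = c.1 • a + c.2 • w := fun c => rfl
  have hLS : ∀ c, L (S c) = c := fun c => by
    rw [hL, hS]
    simp [dotProduct_add, dotProduct_smul, h1, h2, h3, h]
  have hsurj : LinearMap.range L = ⊤ := LinearMap.range_eq_top.2 fun c => ⟨S c, hLS c⟩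
  let e : V ≃ₗ[F] F × F × (LinearMap.ker L) :=
    { toFun := fun x => ((L x).1, (L x).2, ⟨x - S (L x), by simp [LinearMap.mem_ker, hLS]⟩)
      map_add' := fun x y => by
        refine Prod.ext (by simp) (Prod.ext (by simp) (Subtype.ext ?_))
        simp; abel
      map_smul' := fun c x => by
        refine Prod.ext (by simp) (Prod.ext (by simp) (Subtype.ext ?_))
        simp [smul_sub]
      invFun := fun c => S (c.1, c.2.1) + c.2.2
      left_inv := fun x => by simp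
      right_inv := fun c => by
        have hk : L (c.2.2 : V) = 0 := LinearMap.mem_ker.1 c.2.2.2
        have hLx : L (S (c.1, c.2.1) + c.2.2) = (c.1, c.2.1) := by rw [map_add, hLS, hk, add_zero]
        refine Prod.ext (by show (L _).1 = c.1; rw [hLx])
          (Prod.ext (by show (L _).2 = c.2.1; rw [hLx]) (Subtype.ext ?_))
        show S (c.1, c.2.1) + c.2.2 - S (L _) = (c.2.2 : V)
        rw [hLx, add_sub_cancel_left] }
  refine ⟨LinearMap.ker L, e, ?_, ?_, fun x => rfl⟩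
  · have := L.finrank_range_add_finrank_ker
    rw [hsurj, finrank_top, Module.finrank_prod, Module.finrank_self, Module.finrank_fin_fun] at this
    omega
  · refine Prod.ext h1 (Prod.ext h (Subtype.ext ?_))
    show a - S (L a) = 0
    rw [hL, h1, h, hS]
    simp

/-- Transvections are conjugate under `GL`, and under `SL` for `n ≥ 3`. -/
theorem exists_conj {t t' : Mat} (ht : Cfsg.IsTransvection t) (ht' : Cfsg.IsTransvection t') :
    ∃ g : GL (Fin n) F, (g : Mat) * t = t' * (g : Mat) ∧ (3 ≤ n → (g : Mat).det = 1) := by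
  classical
  obtain ⟨a, φ, ha, hφ, h, rfl⟩ := exists_data ht
  obtain ⟨a', φ', ha', hφ', h', rfl⟩ := exists_data ht'
  obtain ⟨C, P, hC, hPa, hPφ⟩ := exists_frame ha hφ h
  obtain ⟨C', P', hC', hPa', hPφ'⟩ := exists_frame ha' hφ' h'
  let e : C ≃ₗ[F] C' := LinearEquiv.ofFinrankEq C C' (by omega)
  let G₀ := P.trans (((LinearEquiv.refl F F).prodCongr ((LinearEquiv.refl F F).prodCongr e)).trans P'.symm)
  have key : ∀ D : C ≃ₗ[F] C, ∃ G : V ≃ₗ[F] V,
      G a = a' ∧ (∀ x, φ' ⬝ᵥ G x = φ ⬝ᵥ x) ∧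
      LinearMap.det (G : V →ₗ[F] V) =
        LinearMap.det (D : C →ₗ[F] C) * LinearMap.det (G₀ : V →ₗ[F] V) := by
    intro D
    let Dp : V ≃ₗ[F] V :=
      (P.trans ((LinearEquiv.refl F F).prodCongr ((LinearEquiv.refl F F).prodCongr D))).trans P.symm
    refine ⟨Dp.trans G₀, ?_, fun x => ?_, ?_⟩
    · refine P'.injective ?_
      simp [Dp, G₀, hPa, hPa']
    · rw [← hPφ', ← hPφ]
      simp [Dp, G₀]
    · have h1 : ((Dp.trans G₀ : V ≃ₗ[F] V) : V →ₗ[F] V) =
          (G₀ : V →ₗ[F] V) ∘ₗ (Dp : V →ₗ[F] V) := rfl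
      have h2 : (Dp : V →ₗ[F] V) = (P.symm : F × F × C →ₗ[F] V) ∘ₗ
          (LinearMap.prodMap LinearMap.id (LinearMap.prodMap LinearMap.id (D : C →ₗ[F] C))) ∘ₗ
          (P.symm.symm : V →ₗ[F] F × F × C) := rfl
      rw [h1, LinearMap.det_comp, h2, LinearMap.det_conj, LinearMap.det_prodMap,
        LinearMap.det_prodMap, LinearMap.det_id, one_mul, one_mul, mul_comm]
  have finish : ∀ G : V ≃ₗ[F] V, G a = a' → (∀ x, φ' ⬝ᵥ G x = φ ⬝ᵥ x) →
      ∃ g : GL (Fin n) F, (g : Mat) * (1 + vecMulVec a φ) = (1 + vecMulVec a' φ') * (g : Mat) ∧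
        (g : Mat).det = LinearMap.det (G : V →ₗ[F] V) := by
    intro G hGa hGφ
    have hd : (LinearMap.toMatrix' (G : V →ₗ[F] V)).det ≠ 0 := by
      rw [LinearMap.det_toMatrix']; exact (LinearEquiv.isUnit_det' G).ne_zero
    refine ⟨GeneralLinearGroup.mkOfDetNeZero _ hd, Matrix.ext_iff_mulVec.2 fun x => ?_,
      LinearMap.det_toMatrix' _⟩
    show (LinearMap.toMatrix' (G : V →ₗ[F] V) * (1 + vecMulVec a φ)) *ᵥ x =
      ((1 + vecMulVec a' φ') * LinearMap.toMatrix' (G : V →ₗ[F] V)) *ᵥ x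
    simp [← Matrix.mulVec_mulVec, Matrix.add_mulVec, vecMulVec_mulVec, LinearMap.toMatrix'_mulVec,
      hGa, hGφ]
  by_cases hn : 3 ≤ n
  · set d : F := (LinearMap.det (G₀ : V →ₗ[F] V))⁻¹ with hd
    have hd0 : d ≠ 0 := inv_ne_zero (LinearEquiv.isUnit_det' G₀).ne_zero
    obtain ⟨i₀⟩ : Nonempty (Fin (Module.finrank F C)) := ⟨⟨0, by omega⟩⟩
    let b := Module.finBasis F C
    let Dl : C →ₗ[F] C := Matrix.toLin b b (Matrix.diagonal (Function.update (fun _ => (1 : F)) i₀ d))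
    have hDd : LinearMap.det Dl = d := by
      rw [LinearMap.det_toLin, Matrix.det_diagonal, Finset.prod_update_of_mem (Finset.mem_univ _)]
      simp
    let D := LinearMap.equivOfDetNeZero Dl (hDd ▸ hd0)
    obtain ⟨G, hG1, hG2, hG3⟩ := key D
    obtain ⟨g, hg, hgd⟩ := finish G hG1 hG2
    refine ⟨g, hg, fun _ => ?_⟩
    rw [hgd, hG3, show (D : C →ₗ[F] C) = Dl from rfl, hDd, hd,
      inv_mul_cancel₀ (LinearEquiv.isUnit_det' G₀).ne_zero]
  · obtain ⟨G, hG1, hG2, -⟩ := key (LinearEquiv.refl F C)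
    obtain ⟨g, hg, -⟩ := finish G hG1 hG2
    exact ⟨g, hg, fun h3 => absurd h3 hn⟩

theorem isTransvection_of_data {a φ : V} (ha : a ≠ 0) (hφ : φ ≠ 0) (h : φ ⬝ᵥ a = 0) :
    Cfsg.IsTransvection (1 + vecMulVec a φ) := by
  refine ⟨?_, ?_⟩
  · rw [add_sub_cancel_left, Matrix.rank]
    have hr : LinearMap.range (vecMulVec a φ).mulVecLin = Submodule.span F {a} := by
      obtain ⟨ψ, w, -, hw, -⟩ := exists_dual ha hφ h
      refine le_antisymm ?_ ((Submodule.span_singleton_le_iff_mem _ _).2 ⟨w, ?_⟩)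
      · rintro _ ⟨x, rfl⟩
        rw [mulVecLin_apply, vecMulVec_mulVec, op_smul_eq_smul]
        exact Submodule.smul_mem _ _ (Submodule.mem_span_singleton_self a)
      · rw [mulVecLin_apply, vecMulVec_mulVec, hw, op_smul_eq_smul, one_smul]
    rw [hr, finrank_span_singleton ha]
  · rw [add_sub_cancel_left, vecMulVec_mul_vecMulVec, h, zero_smul, vecMulVec_zero]

theorem vecMulVec_inj {a a' φ φ' : V} (ha : a ≠ 0) (hφ : φ ≠ 0)
    (h : vecMulVec a φ = vecMulVec a' φ') : ∃ c : F, c ≠ 0 ∧ a = c • a' ∧ φ = c⁻¹ • φ' := by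
  obtain ⟨i, hi⟩ := Function.ne_iff.1 ha
  obtain ⟨j, hj⟩ := Function.ne_iff.1 hφ
  simp only [Pi.zero_apply] at hi hj
  have e : ∀ k l, a k * φ l = a' k * φ' l := fun k l => congrFun (congrFun h k) l
  have hj' : φ' j ≠ 0 := fun h0 => mul_ne_zero hi hj (by rw [e, h0, mul_zero])
  refine ⟨φ' j / φ j, div_ne_zero hj' hj, funext fun k => ?_, funext fun l => ?_⟩
  · rw [Pi.smul_apply, smul_eq_mul]
    field_simp
    linear_combination e k j
  · rw [Pi.smul_apply, smul_eq_mul, inv_div]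
    have e1 := e i l
    have e2 := e i j
    have hi' : a' i ≠ 0 := fun h0 => mul_ne_zero hi hj (by rw [e, h0, zero_mul])
    field_simp
    refine mul_left_cancel₀ hi ?_
    linear_combination φ' j * e1 - φ' l * e2

/-- The pairs `(a, φ)`. -/
theorem card_pairs [Fintype F] :
    Nat.card {p : V × V // p.1 ≠ 0 ∧ p.2 ≠ 0 ∧ p.2 ⬝ᵥ p.1 = 0} =
      (Fintype.card F ^ n - 1) * (Fintype.card F ^ (n - 1) - 1) := by
  classical
  have hker : ∀ φ : {φ : V // φ ≠ 0},
      Nat.card {a : V // a ≠ 0 ∧ φ.1 ⬝ᵥ a = 0} = Fintype.card F ^ (n - 1) - 1 := by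
    intro φ
    let L := dotProductBilin F F φ.1
    have hsurj : LinearMap.range L = ⊤ := LinearMap.range_eq_top.2 fun c => by
      obtain ⟨j, hj⟩ := Function.ne_iff.1 φ.2
      exact ⟨Pi.single j (c / φ.1 j), by
        show φ.1 ⬝ᵥ Pi.single j _ = c
        rw [dotProduct_single, mul_div_cancel₀ _ hj]⟩
    have hd : Module.finrank F (LinearMap.ker L) = n - 1 := by
      have := L.finrank_range_add_finrank_ker
      rw [hsurj, finrank_top, Module.finrank_self, Module.finrank_fin_fun] at this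
      omega
    have e : {a : V // a ≠ 0 ∧ φ.1 ⬝ᵥ a = 0} ≃ {a : LinearMap.ker L // a ≠ 0} :=
      { toFun := fun a => ⟨⟨a.1, a.2.2⟩, fun h => a.2.1 (congrArg Subtype.val h)⟩
        invFun := fun a => ⟨a.1.1, fun h => a.2 (Subtype.ext h), a.1.2⟩
        left_inv := fun a => rfl
        right_inv := fun a => rfl }
    rw [Nat.card_congr e, Nat.card_eq_fintype_card, Fintype.card_subtype_compl,
      Fintype.card_subtype_eq, Module.card_eq_pow_finrank (K := F), hd]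
  have e : {p : V × V // p.1 ≠ 0 ∧ p.2 ≠ 0 ∧ p.2 ⬝ᵥ p.1 = 0} ≃
      Σ φ : {φ : V // φ ≠ 0}, {a : V // a ≠ 0 ∧ φ.1 ⬝ᵥ a = 0} :=
    { toFun := fun p => ⟨⟨p.1.2, p.2.2.1⟩, ⟨p.1.1, p.2.1, p.2.2.2⟩⟩
      invFun := fun p => ⟨(p.2.1, p.1.1), p.2.2.1, p.1.2, p.2.2.2⟩
      left_inv := fun p => rfl
      right_inv := fun p => rfl }
  rw [Nat.card_congr e, Nat.card_sigma, Finset.sum_congr rfl fun φ _ => hker φ, Finset.sum_const,
    Finset.card_univ, Fintype.card_subtype_compl, Fintype.card_subtype_eq, smul_eq_mul]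
  congr 1
  simp

/-- The number of transvections. -/
theorem card_transvections [Fintype F] :
    Nat.card {t : GL (Fin n) F // Cfsg.IsTransvection (t : Mat)} * (Fintype.card F - 1) =
      (Fintype.card F ^ n - 1) * (Fintype.card F ^ (n - 1) - 1) := by
  classical
  rw [← card_pairs, ← Fintype.card_units, ← Nat.card_eq_fintype_card (α := Fˣ), ← Nat.card_prod]
  have hdata := fun t : {t : GL (Fin n) F // Cfsg.IsTransvection (t : Mat)} => exists_data t.2
  choose a φ ha hφ h0 ht using hdata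
  refine Nat.card_eq_of_bijective (fun p => ⟨((p.2 : F) • a p.1, ((p.2⁻¹ : Fˣ) : F) • φ p.1),
    smul_ne_zero (Units.ne_zero _) (ha _), smul_ne_zero (Units.ne_zero _) (hφ _), by
      rw [smul_dotProduct, dotProduct_smul, h0]; simp⟩) ⟨?_, ?_⟩
  · rintro ⟨t, c⟩ ⟨t', c'⟩ h
    have h1 : (c : F) • a t = (c' : F) • a t' := congrArg (fun x => x.1.1) h
    have h2 : ((c⁻¹ : Fˣ) : F) • φ t = ((c'⁻¹ : Fˣ) : F) • φ t' := congrArg (fun x => x.1.2) h
    have htt : vecMulVec (a t) (φ t) = vecMulVec (a t') (φ t') := by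
      have := congrArg₂ vecMulVec h1 h2
      simpa [smul_vecMulVec, vecMulVec_smul, smul_smul] using this
    have e : t = t' := Subtype.ext (Units.ext (by rw [ht t, ht t', htt]))
    subst e
    obtain ⟨i, hi⟩ := Function.ne_iff.1 (ha t)
    exact Prod.ext rfl (Units.ext (mul_right_cancel₀ hi (congrFun h1 i)))
  · rintro ⟨⟨x, y⟩, hx, hy, hxy⟩
    have hT := isTransvection_of_data hx hy hxy
    have hsq : (1 + vecMulVec x y) * (1 - vecMulVec x y) = 1 := by
      have h2 := hT.2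
      rw [add_sub_cancel_left] at h2
      rw [add_mul, one_mul, mul_sub, mul_one, h2]; abel
    let t : GL (Fin n) F := ⟨1 + vecMulVec x y, 1 - vecMulVec x y, hsq, mul_eq_one_comm.1 hsq⟩
    obtain ⟨c, hc, hxc, hyc⟩ := vecMulVec_inj hx hy (add_left_cancel (ht ⟨t, hT⟩) :
      vecMulVec x y = vecMulVec (a ⟨t, hT⟩) (φ ⟨t, hT⟩))
    refine ⟨(⟨t, hT⟩, Units.mk0 c hc), Subtype.ext (Prod.ext hxc.symm ?_)⟩
    show _ = (x, y).2
    rw [hyc]
    simp

end Cfsg.Agent.TransvGL
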