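import Mathlib

/-!
Regular unipotent matrices: kernels of powers and cyclic vectors.
-/

set_option autoImplicit false
set_option linter.unusedSectionVars false

namespace Cfsg.Agent.TransvGL

variable {F V : Type*} [Field F] [AddCommGroup V] [Module F V] [FiniteDimensional F V]

theorem finrank_ker_pow_succ_le (N : Module.End F V) (j : ℕ) :
    Module.finrank F (LinearMap.ker (N ^ (j + 1))) ≤
      Module.finrank F (LinearMap.ker (N ^ j)) + Module.finrank F (LinearMap.ker N) := by
  let r : LinearMap.ker (N ^ (j + 1)) →ₗ[F] LinearMap.ker (N ^ j) :=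
    (N.comp (LinearMap.ker (N ^ (j + 1))).subtype).codRestrict _ fun v => by
      rw [LinearMap.mem_ker]
      show (N ^ j * N) (v : V) = 0
      rw [← pow_succ]
      exact LinearMap.mem_ker.1 v.2
  have h := r.finrank_range_add_finrank_ker
  have h1 := (LinearMap.range r).finrank_le
  have h2 : Module.finrank F (LinearMap.ker r) ≤ Module.finrank F (LinearMap.ker N) := by
    refine LinearMap.finrank_le_finrank_of_injective
      (f := ((LinearMap.ker (N ^ (j + 1))).subtype.comp (LinearMap.ker r).subtype).codRestrict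
        (LinearMap.ker N) fun v => congrArg Subtype.val (LinearMap.mem_ker.1 v.2)) ?_
    intro x y hxy
    exact Subtype.ext (Subtype.ext (congrArg (fun z : LinearMap.ker N => (z : V)) hxy :))
  omega

theorem finrank_ker_pow_le {N : Module.End F V} (h : Module.finrank F (LinearMap.ker N) ≤ 1) :
    ∀ j, Module.finrank F (LinearMap.ker (N ^ j)) ≤ j
  | 0 => by
    rw [pow_zero, show LinearMap.ker (1 : Module.End F V) = ⊥ from LinearMap.ker_id, finrank_bot]
  | j + 1 => by
    have := finrank_ker_pow_succ_le N j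
    have := finrank_ker_pow_le h j
    omega

/-- A cyclic vector gives a basis. -/
theorem exists_cyclic {N : Module.End F V} {n : ℕ} (hV : Module.finrank F V = n) (hnil : N ^ n = 0)
    {v : V} (hv : (N ^ (n - 1)) v ≠ 0) :
    ∃ Φ : (Fin n → F) ≃ₗ[F] V, ∀ c, Φ c = ∑ i : Fin n, c i • (N ^ (i : ℕ)) v := by
  let L : (Fin n → F) →ₗ[F] V := Fintype.linearCombination F (fun i : Fin n => (N ^ (i : ℕ)) v)
  have hL : ∀ c, L c = ∑ i : Fin n, c i • (N ^ (i : ℕ)) v := fun c =>
    Fintype.linearCombination_apply F _ c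
  have hinj : Function.Injective L := by
    refine (injective_iff_map_eq_zero L).2 fun c hc => ?_
    by_contra hne
    obtain ⟨i₀, hi₀⟩ := Function.ne_iff.1 hne
    have hex : ∃ i : ℕ, ∃ h : i < n, c ⟨i, h⟩ ≠ 0 := ⟨i₀, i₀.2, hi₀⟩
    classical
    obtain ⟨hm, hcm⟩ := Nat.find_spec hex
    set m := Nat.find hex
    have h := congrArg (N ^ (n - 1 - m)) hc
    rw [map_zero, hL, map_sum, Finset.sum_eq_single ⟨m, hm⟩ ?_ (by simp)] at h
    · rw [map_smul, ← Module.End.mul_apply, ← pow_add,
        show n - 1 - m + m = n - 1 by omega] at h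
      exact hv ((smul_eq_zero.1 h).resolve_left hcm)
    · intro i _ hi
      rcases lt_or_gt_of_ne (fun e : (i : ℕ) = m => hi (Fin.ext e)) with hlt | hgt
      · have := Nat.find_min hex hlt
        push Not at this
        rw [this i.2, zero_smul, map_zero]
      · rw [map_smul, ← Module.End.mul_apply, ← pow_add,
          pow_eq_zero_of_le (by omega) hnil, LinearMap.zero_apply, smul_zero]
  exact ⟨LinearEquiv.ofBijective L ⟨hinj, (LinearMap.injective_iff_surjective_of_finrank_eq_finrank
    (by rw [Module.finrank_fin_fun, hV])).1 hinj⟩, hL⟩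

theorem apply_pow_comm {N g : Module.End F V} (h : Commute g N) (i : ℕ) (v : V) :
    g ((N ^ i) v) = (N ^ i) (g v) := LinearMap.congr_fun (h.pow_right i).eq v

/-- The centraliser of a regular nilpotent endomorphism. -/
theorem exists_commute {N : Module.End F V} {n : ℕ} (hV : Module.finrank F V = n) (hnil : N ^ n = 0)
    {v w : V} (hv : (N ^ (n - 1)) v ≠ 0) (hw : (N ^ (n - 1)) w ≠ 0) :
    ∃ g : V ≃ₗ[F] V, g v = w ∧ Commute (g : Module.End F V) N := by
  obtain ⟨Φ, hΦ⟩ := exists_cyclic hV hnil hv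
  obtain ⟨Ψ, hΨ⟩ := exists_cyclic hV hnil hw
  have hb : ∀ (i : ℕ), (Φ.symm.trans Ψ) ((N ^ i) v) = (N ^ i) w := by
    intro i
    by_cases hi : i < n
    · have h1 : Φ (Pi.single ⟨i, hi⟩ 1) = (N ^ i) v := by
        rw [hΦ, Finset.sum_eq_single ⟨i, hi⟩ (fun j _ hj => by simp [hj]) (by simp)]
        simp
      have h2 : Ψ (Pi.single ⟨i, hi⟩ 1) = (N ^ i) w := by
        rw [hΨ, Finset.sum_eq_single ⟨i, hi⟩ (fun j _ hj => by simp [hj]) (by simp)]
        simp
      rw [← h1, LinearEquiv.trans_apply, Φ.symm_apply_apply, h2]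
    · rw [pow_eq_zero_of_le (not_lt.1 hi) hnil]
      simp
  refine ⟨Φ.symm.trans Ψ, by simpa using hb 0, ?_⟩
  refine LinearMap.ext fun x => ?_
  obtain ⟨c, rfl⟩ := Φ.surjective x
  show (Φ.symm.trans Ψ) (N (Φ c)) = N ((Φ.symm.trans Ψ) (Φ c))
  rw [hΦ, map_sum, map_sum, map_sum, map_sum]
  refine Finset.sum_congr rfl fun i _ => ?_
  rw [map_smul, map_smul, map_smul, map_smul, ← Module.End.mul_apply, ← pow_succ', hb, hb, pow_succ',
    Module.End.mul_apply]

end Cfsg.Agent.TransvGL
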